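import Cfsg.Agent.H7.OrderType.SmallSL
import Cfsg.Agent.H7.OrderType.SmallAGL

/-!
Two products of blocks with the same numbers of solutions of `x ^ d = 1`.
-/

set_option autoImplicit false
set_option synthInstance.maxSize 4000
set_option synthInstance.maxHeartbeats 400000
set_option maxHeartbeats 1000000

namespace Cfsg.Agent.OrderType

/-- Trivial action on order 2. -/
noncomputable def c2_1 (m : ℕ) (h : 1 ∣ m) : Act m :=
  Act.base (ZMod 2) m 2 1 2 Nat.prime_two (by decide +kernel) (by simp) id (fun _ _ => rfl) h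
    (fun _ => rfl) one_ne_zero (fun i hi h0 => absurd (Nat.lt_one_iff.mp hi) h0)

/-- Inversion on order 3. -/
noncomputable def c3_2 (m : ℕ) (h : 2 ∣ m) : Act m :=
  Act.base (ZMod 3) m 3 2 3 Nat.prime_three (by decide +kernel) (by simp) (fun x => -x)
    (by decide +kernel) h (by decide +kernel) two_ne_zero (by decide +kernel)

/-- Trivial action on order 7. -/
noncomputable def c7_1 (m : ℕ) (h : 1 ∣ m) : Act m :=
  Act.base (ZMod 7) m 7 1 7 (by norm_num) (by decide +kernel) (by simp) id (fun _ _ => rfl) h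
    (fun _ => rfl) one_ne_zero (fun i hi h0 => absurd (Nat.lt_one_iff.mp hi) h0)

/-- Order 2 on order 7. -/
noncomputable def c7_2 (m : ℕ) (h : 2 ∣ m) : Act m :=
  Act.base (ZMod 7) m 7 2 7 (by norm_num) (by decide +kernel) (by simp) (fun x => 6 * x)
    (by decide +kernel) h (by decide +kernel) (by norm_num) (by decide +kernel)

/-- Order 3 on order 7. -/
noncomputable def c7_3 (m : ℕ) (h : 3 ∣ m) : Act m :=
  Act.base (ZMod 7) m 7 3 7 (by norm_num) (by decide +kernel) (by simp) (fun x => 2 * x)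
    (by decide +kernel) h (by decide +kernel) (by norm_num) (by decide +kernel)

/-- Order 6 on order 7. -/
noncomputable def c7_6 (m : ℕ) (h : 6 ∣ m) : Act m :=
  Act.base (ZMod 7) m 7 6 7 (by norm_num) (by decide +kernel) (by simp) (fun x => 3 * x)
    (by decide +kernel) h (by decide +kernel) (by norm_num) (by decide +kernel)

/-- An automorphism of order 3 on order 4. -/
noncomputable def c2_3 (m : ℕ) (h : 3 ∣ m) : Act m :=
  Act.base (ZMod 2 × ZMod 2) m 2 3 4 (by norm_num) (by decide +kernel)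
    (by simp [Nat.card_prod]) (fun x => (x.2, x.1 + x.2))
    (by decide +kernel) h (by decide +kernel) (by norm_num) (by decide +kernel)

/-- An automorphism of order 7 on order 8. -/
noncomputable def c2_7 (m : ℕ) (h : 7 ∣ m) : Act m :=
  Act.base (ZMod 2 × ZMod 2 × ZMod 2) m 2 7 8 (by norm_num) (by decide +kernel)
    (by simp [Nat.card_prod]) (fun x => (x.2.2, x.1 + x.2.2, x.2.1))
    (by decide +kernel) h (by decide +kernel) (by norm_num) (by decide +kernel)

/-- An automorphism of order 21 on order 64. -/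
noncomputable def c2_21 (m : ℕ) (h : 21 ∣ m) : Act m :=
  Act.base (ZMod 2 × ZMod 2 × ZMod 2 × ZMod 2 × ZMod 2 × ZMod 2) m 2 21 64 (by norm_num) (by decide +kernel)
    (by simp [Nat.card_prod]) (fun x => (x.2.2.2.2.2, x.1 + x.2.2.2.2.2, x.2.1 + x.2.2.2.2.2, x.2.2.1, x.2.2.2.1 + x.2.2.2.2.2, x.2.2.2.2.1))
    (by decide +kernel) h (by decide +kernel) (by norm_num) (by decide +kernel)

/-- An automorphism of order 4 on order 49. -/
noncomputable def c7_4 (m : ℕ) (h : 4 ∣ m) : Act m :=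
  Act.base (ZMod 7 × ZMod 7) m 7 4 49 (by norm_num) (by decide +kernel)
    (by simp [Nat.card_prod]) (fun x => (-x.2, x.1))
    (by decide +kernel) h (by decide +kernel) (by norm_num) (by decide +kernel)

/-- An automorphism of order 12 on order 49. -/
noncomputable def c7_12 (m : ℕ) (h : 12 ∣ m) : Act m :=
  Act.base (ZMod 7 × ZMod 7) m 7 12 49 (by norm_num) (by decide +kernel)
    (by simp [Nat.card_prod]) (fun x => (-(3 * x.2), 3 * x.1))
    (by decide +kernel) h (by decide +kernel) (by norm_num) (by decide +kernel)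

/-- A block. -/
noncomputable def blk0 : Blk 84 :=
  Act.blk (Act.prod (c2_1 2 (by decide)) (c2_1 2 (by decide))) 4
    (by simp [Act.prod, Act.base, c2_1, c2_3, c2_7, c2_21, c3_2, c7_1, c7_2, c7_3, c7_4, c7_6, c7_12]) (by decide +kernel)

/-- A block. -/
noncomputable def blk1 : Blk 84 :=
  Act.blk (Act.prod (c2_1 4 (by decide)) (c3_2 4 (by decide))) 6
    (by simp [Act.prod, Act.base, c2_1, c2_3, c2_7, c2_21, c3_2, c7_1, c7_2, c7_3, c7_4, c7_6, c7_12]) (by decide +kernel)

/-- A block. -/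
noncomputable def blk2 : Blk 84 :=
  Act.blk (Act.prod (c2_1 2 (by decide)) (Act.prod (c2_1 2 (by decide)) (c3_2 2 (by decide)))) 12
    (by simp [Act.prod, Act.base, c2_1, c2_3, c2_7, c2_21, c3_2, c7_1, c7_2, c7_3, c7_4, c7_6, c7_12]) (by decide +kernel)

/-- A block. -/
noncomputable def blk3 : Blk 84 :=
  Act.blk (c7_2 4 (by decide)) 7
    (by simp [Act.prod, Act.base, c2_1, c2_3, c2_7, c2_21, c3_2, c7_1, c7_2, c7_3, c7_4, c7_6, c7_12]) (by decide +kernel)

/-- A block. -/
noncomputable def blk4 : Blk 84 :=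
  Act.blk (Act.prod (c2_1 2 (by decide)) (c7_1 2 (by decide))) 14
    (by simp [Act.prod, Act.base, c2_1, c2_3, c2_7, c2_21, c3_2, c7_1, c7_2, c7_3, c7_4, c7_6, c7_12]) (by decide +kernel)

/-- A block. -/
noncomputable def blk5 : Blk 84 :=
  Act.blk (Act.prod (c2_1 2 (by decide)) (c7_2 2 (by decide))) 14
    (by simp [Act.prod, Act.base, c2_1, c2_3, c2_7, c2_21, c3_2, c7_1, c7_2, c7_3, c7_4, c7_6, c7_12]) (by decide +kernel)

/-- A block. -/
noncomputable def blk6 : Blk 84 :=
  Act.blk (Act.prod (c2_1 4 (by decide)) (Act.prod (c2_1 4 (by decide)) (c2_1 4 (by decide)))) 8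
    (by simp [Act.prod, Act.base, c2_1, c2_3, c2_7, c2_21, c3_2, c7_1, c7_2, c7_3, c7_4, c7_6, c7_12]) (by decide +kernel)

/-- A block. -/
noncomputable def blk7 : Blk 84 :=
  Act.blk (Act.prod (c3_2 4 (by decide)) (c3_2 4 (by decide))) 9
    (by simp [Act.prod, Act.base, c2_1, c2_3, c2_7, c2_21, c3_2, c7_1, c7_2, c7_3, c7_4, c7_6, c7_12]) (by decide +kernel)

/-- A block. -/
noncomputable def blk8 : Blk 84 :=
  Act.blk (Act.prod (c2_1 2 (by decide)) (Act.prod (c3_2 2 (by decide)) (c3_2 2 (by decide)))) 18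
    (by simp [Act.prod, Act.base, c2_1, c2_3, c2_7, c2_21, c3_2, c7_1, c7_2, c7_3, c7_4, c7_6, c7_12]) (by decide +kernel)

/-- A block. -/
noncomputable def blk9 : Blk 84 :=
  Act.blk (Act.prod (c3_2 2 (by decide)) (c7_2 2 (by decide))) 21
    (by simp [Act.prod, Act.base, c2_1, c2_3, c2_7, c2_21, c3_2, c7_1, c7_2, c7_3, c7_4, c7_6, c7_12]) (by decide +kernel)

/-- A block. -/
noncomputable def blk10 : Blk 84 :=
  Act.blk (Act.prod (c2_3 3 (by decide)) (c2_3 3 (by decide))) 16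
    (by simp [Act.prod, Act.base, c2_1, c2_3, c2_7, c2_21, c3_2, c7_1, c7_2, c7_3, c7_4, c7_6, c7_12]) (by decide +kernel)

/-- A block. -/
noncomputable def blk11 : Blk 84 :=
  Act.blk (Act.prod (c3_2 4 (by decide)) (c7_2 4 (by decide))) 21
    (by simp [Act.prod, Act.base, c2_1, c2_3, c2_7, c2_21, c3_2, c7_1, c7_2, c7_3, c7_4, c7_6, c7_12]) (by decide +kernel)

/-- A block. -/
noncomputable def blk12 : Blk 84 :=
  Act.blk (Act.prod (c2_1 12 (by decide)) (c2_3 12 (by decide))) 8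
    (by simp [Act.prod, Act.base, c2_1, c2_3, c2_7, c2_21, c3_2, c7_1, c7_2, c7_3, c7_4, c7_6, c7_12]) (by decide +kernel)

/-- A block. -/
noncomputable def blk13 : Blk 84 :=
  Act.blk (Act.prod (c7_2 2 (by decide)) (c7_2 2 (by decide))) 49
    (by simp [Act.prod, Act.base, c2_1, c2_3, c2_7, c2_21, c3_2, c7_1, c7_2, c7_3, c7_4, c7_6, c7_12]) (by decide +kernel)

/-- A block. -/
noncomputable def blk14 : Blk 84 :=
  Act.blk (Act.prod (c3_2 2 (by decide)) (Act.prod (c3_2 2 (by decide)) (c7_2 2 (by decide)))) 63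
    (by simp [Act.prod, Act.base, c2_1, c2_3, c2_7, c2_21, c3_2, c7_1, c7_2, c7_3, c7_4, c7_6, c7_12]) (by decide +kernel)

/-- A block. -/
noncomputable def blk15 : Blk 84 :=
  Act.blk (Act.prod (c2_1 12 (by decide)) (c7_3 12 (by decide))) 14
    (by simp [Act.prod, Act.base, c2_1, c2_3, c2_7, c2_21, c3_2, c7_1, c7_2, c7_3, c7_4, c7_6, c7_12]) (by decide +kernel)

/-- A block. -/
noncomputable def blk16 : Blk 84 :=
  Act.blk (Act.prod (c2_1 6 (by decide)) (Act.prod (c2_1 6 (by decide)) (c7_6 6 (by decide)))) 28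
    (by simp [Act.prod, Act.base, c2_1, c2_3, c2_7, c2_21, c3_2, c7_1, c7_2, c7_3, c7_4, c7_6, c7_12]) (by decide +kernel)

/-- A block. -/
noncomputable def blk17 : Blk 84 :=
  Act.blk (Act.prod (c7_2 4 (by decide)) (c7_2 4 (by decide))) 49
    (by simp [Act.prod, Act.base, c2_1, c2_3, c2_7, c2_21, c3_2, c7_1, c7_2, c7_3, c7_4, c7_6, c7_12]) (by decide +kernel)

/-- A block. -/
noncomputable def blk18 : Blk 84 :=
  Act.blk (Act.prod (c3_2 4 (by decide)) (Act.prod (c3_2 4 (by decide)) (c7_2 4 (by decide)))) 63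
    (by simp [Act.prod, Act.base, c2_1, c2_3, c2_7, c2_21, c3_2, c7_1, c7_2, c7_3, c7_4, c7_6, c7_12]) (by decide +kernel)

/-- A block. -/
noncomputable def blk19 : Blk 84 :=
  Act.blk (Act.prod (c3_2 12 (by decide)) (c7_6 12 (by decide))) 21
    (by simp [Act.prod, Act.base, c2_1, c2_3, c2_7, c2_21, c3_2, c7_1, c7_2, c7_3, c7_4, c7_6, c7_12]) (by decide +kernel)

/-- A block. -/
noncomputable def blk20 : Blk 84 :=
  Act.blk (Act.prod (c2_3 12 (by decide)) (c7_3 12 (by decide))) 28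
    (by simp [Act.prod, Act.base, c2_1, c2_3, c2_7, c2_21, c3_2, c7_1, c7_2, c7_3, c7_4, c7_6, c7_12]) (by decide +kernel)

/-- A block. -/
noncomputable def blk21 : Blk 84 :=
  Act.blk (Act.prod (c2_1 4 (by decide)) (c7_4 4 (by decide))) 98
    (by simp [Act.prod, Act.base, c2_1, c2_3, c2_7, c2_21, c3_2, c7_1, c7_2, c7_3, c7_4, c7_6, c7_12]) (by decide +kernel)

/-- A block. -/
noncomputable def blk22 : Blk 84 :=
  Act.blk (Act.prod (c2_1 28 (by decide)) (c2_7 28 (by decide))) 16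
    (by simp [Act.prod, Act.base, c2_1, c2_3, c2_7, c2_21, c3_2, c7_1, c7_2, c7_3, c7_4, c7_6, c7_12]) (by decide +kernel)

/-- A block. -/
noncomputable def blk23 : Blk 84 :=
  Act.blk (Act.prod (c2_7 7 (by decide)) (c2_7 7 (by decide))) 64
    (by simp [Act.prod, Act.base, c2_1, c2_3, c2_7, c2_21, c3_2, c7_1, c7_2, c7_3, c7_4, c7_6, c7_12]) (by decide +kernel)

/-- A block. -/
noncomputable def blk24 : Blk 84 :=
  Act.blk (Act.prod (c3_2 4 (by decide)) (Act.prod (c7_2 4 (by decide)) (c7_2 4 (by decide)))) 147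
    (by simp [Act.prod, Act.base, c2_1, c2_3, c2_7, c2_21, c3_2, c7_1, c7_2, c7_3, c7_4, c7_6, c7_12]) (by decide +kernel)

/-- A block. -/
noncomputable def blk25 : Blk 84 :=
  Act.blk (Act.prod (c7_2 12 (by decide)) (c7_6 12 (by decide))) 49
    (by simp [Act.prod, Act.base, c2_1, c2_3, c2_7, c2_21, c3_2, c7_1, c7_2, c7_3, c7_4, c7_6, c7_12]) (by decide +kernel)

/-- A block. -/
noncomputable def blk26 : Blk 84 :=
  Act.blk (Act.prod (c7_6 12 (by decide)) (c7_6 12 (by decide))) 49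
    (by simp [Act.prod, Act.base, c2_1, c2_3, c2_7, c2_21, c3_2, c7_1, c7_2, c7_3, c7_4, c7_6, c7_12]) (by decide +kernel)

/-- A block. -/
noncomputable def blk27 : Blk 84 :=
  Act.blk (Act.prod (c3_2 4 (by decide)) (c7_4 4 (by decide))) 147
    (by simp [Act.prod, Act.base, c2_1, c2_3, c2_7, c2_21, c3_2, c7_1, c7_2, c7_3, c7_4, c7_6, c7_12]) (by decide +kernel)

/-- A block. -/
noncomputable def blk28 : Blk 84 :=
  Act.blk (Act.prod (c2_1 6 (by decide)) (Act.prod (c7_2 6 (by decide)) (c7_6 6 (by decide)))) 98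
    (by simp [Act.prod, Act.base, c2_1, c2_3, c2_7, c2_21, c3_2, c7_1, c7_2, c7_3, c7_4, c7_6, c7_12]) (by decide +kernel)

/-- A block. -/
noncomputable def blk29 : Blk 84 :=
  Act.blk (Act.prod (c2_1 6 (by decide)) (Act.prod (c7_6 6 (by decide)) (c7_6 6 (by decide)))) 98
    (by simp [Act.prod, Act.base, c2_1, c2_3, c2_7, c2_21, c3_2, c7_1, c7_2, c7_3, c7_4, c7_6, c7_12]) (by decide +kernel)

/-- A block. -/
noncomputable def blk30 : Blk 84 :=
  Act.blk (Act.prod (c2_1 12 (by decide)) (c7_12 12 (by decide))) 98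
    (by simp [Act.prod, Act.base, c2_1, c2_3, c2_7, c2_21, c3_2, c7_1, c7_2, c7_3, c7_4, c7_6, c7_12]) (by decide +kernel)

/-- A block. -/
noncomputable def blk31 : Blk 84 :=
  Act.blk (Act.prod (c7_2 4 (by decide)) (c7_4 4 (by decide))) 343
    (by simp [Act.prod, Act.base, c2_1, c2_3, c2_7, c2_21, c3_2, c7_1, c7_2, c7_3, c7_4, c7_6, c7_12]) (by decide +kernel)

/-- A block. -/
noncomputable def blk32 : Blk 84 :=
  Act.blk (Act.prod (c7_6 6 (by decide)) (Act.prod (c7_6 6 (by decide)) (c7_6 6 (by decide)))) 343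
    (by simp [Act.prod, Act.base, c2_1, c2_3, c2_7, c2_21, c3_2, c7_1, c7_2, c7_3, c7_4, c7_6, c7_12]) (by decide +kernel)

/-- A block. -/
noncomputable def blk33 : Blk 84 :=
  Act.blk (Act.prod (c7_3 12 (by decide)) (Act.prod (c7_3 12 (by decide)) (c7_6 12 (by decide)))) 343
    (by simp [Act.prod, Act.base, c2_1, c2_3, c2_7, c2_21, c3_2, c7_1, c7_2, c7_3, c7_4, c7_6, c7_12]) (by decide +kernel)

/-- A block. -/
noncomputable def blk34 : Blk 84 :=
  Act.blk (Act.prod (c7_6 12 (by decide)) (Act.prod (c7_6 12 (by decide)) (c7_6 12 (by decide)))) 343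
    (by simp [Act.prod, Act.base, c2_1, c2_3, c2_7, c2_21, c3_2, c7_1, c7_2, c7_3, c7_4, c7_6, c7_12]) (by decide +kernel)

/-- A block. -/
noncomputable def blk35 : Blk 84 :=
  Act.blk (Act.prod (c7_2 12 (by decide)) (c7_12 12 (by decide))) 343
    (by simp [Act.prod, Act.base, c2_1, c2_3, c2_7, c2_21, c3_2, c7_1, c7_2, c7_3, c7_4, c7_6, c7_12]) (by decide +kernel)

/-- A block. -/
noncomputable def blk36 : Blk 84 :=
  Act.blk (Act.prod (c2_3 21 (by decide)) (c2_21 21 (by decide))) 256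
    (by simp [Act.prod, Act.base, c2_1, c2_3, c2_7, c2_21, c3_2, c7_1, c7_2, c7_3, c7_4, c7_6, c7_12]) (by decide +kernel)

/-- A block. -/
noncomputable def blk37 : Blk 84 :=
  Act.blk (Act.prod (c7_2 6 (by decide)) (Act.prod (c7_3 6 (by decide)) (Act.prod (c7_6 6 (by decide)) (c7_6 6 (by decide))))) 2401
    (by simp [Act.prod, Act.base, c2_1, c2_3, c2_7, c2_21, c3_2, c7_1, c7_2, c7_3, c7_4, c7_6, c7_12]) (by decide +kernel)

/-- Factors of the solvable group. -/
noncomputable def listG : List (Blk 84 × ℕ) :=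
  [(blk0, 223),
  (blk3, 99),
  (blk5, 27),
  (blk6, 42),
  (blk7, 18),
  (blk9, 18),
  (blk10, 18),
  (blk14, 108),
  (blk15, 48),
  (blk17, 3),
  (blk19, 144),
  (blk24, 54),
  (blk27, 18),
  (blk28, 126),
  (blk29, 18),
  (blk32, 18),
  (blk33, 18),
  (blk35, 18),
  (blk36, 18),
  (blkL23, 18),
  (blkAGL8, 36)]

/-- Factors of the other group. -/
noncomputable def listH : List (Blk 84 × ℕ) :=
  [(blkL32, 18),
  (blk1, 36),
  (blk2, 18),
  (blk4, 12),
  (blk8, 90),
  (blk11, 162),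
  (blk12, 36),
  (blk13, 63),
  (blk16, 288),
  (blk18, 36),
  (blk20, 36),
  (blk21, 18),
  (blk22, 18),
  (blk23, 18),
  (blk25, 30),
  (blk26, 18),
  (blk30, 36),
  (blk31, 18),
  (blk34, 18),
  (blk37, 18)]

theorem counts_eq : ∀ d ∈ (84 : ℕ).divisors, (Blk.list 84 listG).N d = (Blk.list 84 listH).N d := by
  intro d hd
  rw [Blk.list_N, Blk.list_N]
  revert d
  decide +kernel

theorem listG_solvable : Group.IsSolvable (Blk.list 84 listG).G := by
  refine Blk.list_solvable _ ?_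
  simp only [listG, List.forall_mem_cons, List.not_mem_nil, IsEmpty.forall_iff, implies_true,
    and_true]
  repeat' apply And.intro
  all_goals first
    | exact Act.ext_solvable _
    | exact L23_solvable
    | exact AGL8_solvable

theorem listH_not_solvable : ¬ Group.IsSolvable (Blk.list 84 listH).G := by
  intro h
  haveI := h
  apply L32_not_solvable
  let f : (Blk.list 84 listH).G →* L32 :=
    (Pi.evalMonoidHom (fun _ : Fin 18 => L32) 0).comp (MonoidHom.fst (Fin 18 → L32) _)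
  exact Group.isSolvable_of_surjective (f := f) fun g => ⟨(fun _ => g, 1), rfl⟩

end Cfsg.Agent.OrderType
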